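import Groth.Agent.TwistBCNF.Core
import Groth.Agent.H8Coh.TwistBCGlobal

/-!
# Base change of direct images of twists, globally and without flatness

For `f : X ⟶ S` proper over a Noetherian scheme, coherent modules `G n` which over every affine open of `S` are the
twists `F ⊗ L^n` by an ample `L`, and a pullback square over a Noetherian `T`, the base change map of `G n` is an
isomorphism for large `n`.
-/

set_option autoImplicit false
set_option maxHeartbeats 800000
set_option backward.isDefEq.respectTransparency false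
set_option linter.style.haveILetI false

universe u

open CategoryTheory CategoryTheory.Limits AlgebraicGeometry Opposite TopologicalSpace TensorProduct Function
open Groth.Agent.Coherent Groth.Agent.PicLib Groth.Agent.AmpleLib Groth.Agent.Coherent.CohBC Groth.Agent.H8Coh

namespace Groth.Agent.TwistBCNF

variable {X S T XT : Scheme.{u}} (f : X ⟶ S) [IsNoetherian S] [IsNoetherian T] [IsProper f]
  (φ : T ⟶ S) {πT : XT ⟶ T} {g : XT ⟶ X} (hsq : IsPullback g πT f φ)

/-- Base change of direct images of high twists is an isomorphism. -/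
theorem exists_bound_isIso (G : ℕ → X.Modules) (hG : ∀ n, Coh.IsCoh (G n))
    (hloc : ∀ V : S.Opens, IsAffineOpen V → ∃ (FV LV : (f ⁻¹ᵁ V).toScheme.Modules), Coh.IsCoh FV ∧
      CohB1.IsAmple LV ∧ ∀ n : ℕ, Nonempty ((Scheme.Modules.pullback (f ⁻¹ᵁ V).ι).obj (G n) ≅
        CohB1.tensorMod FV (CohB1.tensorPow LV n))) :
    ∃ N : ℕ, ∀ n : ℕ, N ≤ n → IsIso (CohBC.bc0 f φ πT g hsq.w (G n)) := by
  classical
  haveI : IsLocallyNoetherian X := LocallyOfFiniteType.isLocallyNoetherian f
  haveI : IsProper πT := MorphismProperty.of_isPullback (P := @IsProper) hsq inferInstance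
  haveI : IsLocallyNoetherian XT := LocallyOfFiniteType.isLocallyNoetherian πT
  have hpt : ∀ t : T, ∃ (W : T.Opens), t ∈ W ∧ ∃ (_ : IsAffineOpen W) (N : ℕ), ∀ n : ℕ, N ≤ n →
      Bijective ((CohBC.bc0 f φ πT g hsq.w (G n)).app W) := by
    intro t
    obtain ⟨V, hV, hxV, -⟩ := exists_isAffineOpen_mem_and_subset (U := ⊤) (x := φ t) trivial
    obtain ⟨W, hW, htW, e⟩ := exists_isAffineOpen_mem_and_subset (U := φ ⁻¹ᵁ V) (x := t) hxV
    let _ : (f ⁻¹ᵁ V).toScheme.Over (Spec (CommRingCat.of Γ(S, V))) := ⟨toSpecSections f hV⟩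
    let _ : (πT ⁻¹ᵁ W).toScheme.Over (Spec (CommRingCat.of Γ(T, W))) := ⟨toSpecSections πT hW⟩
    haveI : IsProper ((f ⁻¹ᵁ V).toScheme ↘ Spec (CommRingCat.of Γ(S, V))) :=
      MorphismProperty.of_isPullback (P := @IsProper) (Coherent.isPullback_toSpecSections f hV) inferInstance
    haveI : IsNoetherianRing Γ(S, V) := IsLocallyNoetherian.component_noetherian ⟨V, hV⟩
    haveI : IsNoetherianRing Γ(T, W) := IsLocallyNoetherian.component_noetherian ⟨W, hW⟩
    obtain ⟨gW, hgW, hsqW⟩ := exists_localSquare f φ hsq hV hW e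
    obtain ⟨FV, LV, hFV, hLV, hiso⟩ := hloc V hV
    obtain ⟨N, hN⟩ := exists_bijective_secBC_twist (φ.appLE V W e).hom hsqW hLV FV hFV
    refine ⟨W, htW, hW, N, fun n hn => ?_⟩
    haveI : Coh.IsQCoh ((Coh.push f).obj (G n)) := (Existence.isCoh_push_of_isProper f (hG n)).1
    obtain ⟨i⟩ := hiso n
    exact H8Coh.bijective_app_of_secBC f φ hsq _ (fun U m => CohExch.bc0_pullSec _ _ U m) hV hW e gW hgW hsqW
      (bijective_secBC_of_iso _ gW hsqW i.symm (hN n hn))
  choose W hWt hW N hN using hpt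
  obtain ⟨s, hs⟩ := isCompact_univ.elim_finite_subcover (fun t => (W t : Set T)) (fun t => (W t).isOpen)
    (fun t _ => Set.mem_iUnion.2 ⟨t, hWt t⟩)
  refine ⟨s.sup N, fun n hn => ?_⟩
  haveI := (Existence.isCoh_push_of_isProper f (hG n)).1
  haveI := EGA43.InjFibre.isQCoh_pullback φ ((Coh.push f).obj (G n))
  haveI := (Existence.isCoh_push_of_isProper πT (ZClosLib.isCoh_pullback g _ (hG n))).1
  refine CohExch.isIso_of_bijective_affine_cover _ fun t => ?_
  obtain ⟨t', ht's, ht⟩ := Set.mem_iUnion₂.1 (hs (Set.mem_univ t))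
  exact ⟨W t', hW t', ht, hN t' n ((Finset.le_sup ht's).trans hn)⟩

end Groth.Agent.TwistBCNF
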