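import Groth.Agent.Coherent.CohBC.TwistBC
import Groth.Agent.Coherent.ProjFormula
import Groth.Agent.Coherent.ProjSpaceFlat
import Groth.Agent.Coherent.Existence.Restrict
import Groth.Agent.CohExch.AffineBC0
import Groth.Agent.MorProj.VeryAmple
import Groth.Agent.RelVALib.ChowPn

/-!
# High twists commute with base change, without flatness

For `X` proper over a Noetherian ring `A` with ample `L`, a coherent `F` and a map `A → B` to a Noetherian ring,
`B ⊗_A Γ(X, F ⊗ L^r) → Γ(X_B, (F ⊗ L^r)_B)` is bijective for all large `r`: push to a projective space and use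
the flat case there.
-/

set_option autoImplicit false
set_option maxHeartbeats 800000
set_option backward.isDefEq.respectTransparency false
set_option linter.style.haveILetI false

universe u

open CategoryTheory CategoryTheory.Limits AlgebraicGeometry Opposite TopologicalSpace TensorProduct Function
open Groth.Agent.Coherent Groth.Agent.PicLib Groth.Agent.AmpleLib Groth.Agent.Coherent.CohBC

namespace Groth.Agent.TwistBCNF

variable {A B : Type u} [CommRing A] [CommRing B] (φ : A →+* B)
  {X P X' P' : Scheme.{u}} [X.Over (Spec (CommRingCat.of A))] [P.Over (Spec (CommRingCat.of A))]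
  [X'.Over (Spec (CommRingCat.of B))] [P'.Over (Spec (CommRingCat.of B))]

/-- The sections of a direct image along a map over the base. -/
theorem smulA_push (i : X ⟶ P)
    (wi : i ≫ (P ↘ Spec (CommRingCat.of A)) = X ↘ Spec (CommRingCat.of A)) (F : X.Modules) (a : A)
    (m : Γ(F, ⊤)) :
    (a • (show Γ((Scheme.Modules.pushforward i).obj F, ⊤) from m) :
      Γ((Scheme.Modules.pushforward i).obj F, ⊤)) = (show Γ((Scheme.Modules.pushforward i).obj F, ⊤) from a • m) := by
  have h : i.app ⊤ (toΓ A ⊤ a) = toΓ A (⊤ : X.Opens) a := by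
    refine (ConcreteCategory.congr_hom (i.naturality (homOfLE (le_top (a := (⊤ : P.Opens)))).op)
      (Coh.toGlobal (P ↘ Spec (CommRingCat.of A)) a)).trans ?_
    refine congrArg (X.presheaf.map _) ?_
    show (i.appTop).hom ((P ↘ Spec (CommRingCat.of A)).appTop ((Scheme.ΓSpecIso (CommRingCat.of A)).inv a)) =
      (X ↘ Spec (CommRingCat.of A)).appTop ((Scheme.ΓSpecIso (CommRingCat.of A)).inv a)
    rw [← wi, Scheme.Hom.comp_appTop]
    rfl
  exact congrArg (fun t : Γ(X, ⊤) => t • m) h

variable {i : X ⟶ P} {i' : X' ⟶ P'} {g : X' ⟶ X} {gP : P' ⟶ P}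
  (hX : IsPullback g (X' ↘ Spec (CommRingCat.of B)) (X ↘ Spec (CommRingCat.of A))
    (Spec.map (CommRingCat.ofHom φ)))
  (hP : IsPullback gP (P' ↘ Spec (CommRingCat.of B)) (P ↘ Spec (CommRingCat.of A))
    (Spec.map (CommRingCat.ofHom φ)))

/-- Base change of sections descends along an affine morphism. -/
theorem bijective_secBC_of_affine [IsAffineHom i]
    (wi : i ≫ (P ↘ Spec (CommRingCat.of A)) = X ↘ Spec (CommRingCat.of A))
    (wi' : i' ≫ (P' ↘ Spec (CommRingCat.of B)) = X' ↘ Spec (CommRingCat.of B))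
    (hsq : IsPullback g i' i gP) (F : X.Modules) [Coh.IsQCoh F]
    (hb : Bijective (secBC φ gP hP ((Scheme.Modules.pushforward i).obj F) ⊤)) :
    Bijective (secBC φ g hX F ⊤) := by
  let _ := φ.toAlgebra
  let G := (Scheme.Modules.pullback g).obj F
  let β := CohBC.bc0 i gP i' g hsq.w F
  haveI : IsIso β := CohExch.isIso_bc0_of_affine hsq F
  let eX : Γ((Scheme.Modules.pushforward i).obj F, ⊤) ≃ₗ[A] Γ(F, ⊤) :=
    { toFun := fun m => m
      invFun := fun m => m
      map_add' := fun _ _ => rfl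
      map_smul' := fun a m => smulA_push i wi F a m
      left_inv := fun _ => rfl
      right_inv := fun _ => rfl }
  let eX' : Γ((Scheme.Modules.pushforward i').obj G, ⊤) ≃ₗ[B] Γ(G, ⊤) :=
    { toFun := fun m => m
      invFun := fun m => m
      map_add' := fun _ _ => rfl
      map_smul' := fun b m => smulA_push i' wi' G b m
      left_inv := fun _ => rfl
      right_inv := fun _ => rfl }
  let eβ := topEquiv (A := B) (asIso β)
  let eT := LinearEquiv.lTensor B eX
  have key : ∀ z, eX' (eβ (secBC φ gP hP ((Scheme.Modules.pushforward i).obj F) ⊤ z)) =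
      secBC φ g hX F ⊤ (eT z) := by
    intro z
    induction z using TensorProduct.induction_on with
    | zero =>
      rw [map_zero, map_zero, map_zero, map_zero]
      exact (map_zero _).symm
    | add u v hu hv =>
      rw [map_add, map_add, map_add, map_add, hu, hv]
      exact (map_add _ _ _).symm
    | tmul b m =>
      refine Eq.trans ?_ (secBC_tmul φ g hX F ⊤ b (eX m)).symm
      refine (congrArg eX' (congrArg eβ (secBC_tmul φ gP hP _ ⊤ b m))).trans ?_
      refine ((congrArg eX' (map_smul eβ b _)).trans (map_smul eX' b _)).trans ?_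
      refine congrArg (fun t : Γ(G, (⊤ : X'.Opens)) => b • t) ?_
      exact (CohExch.bc0_pullSec hsq.w F ⊤ m).trans (resM_self G _ _)
  have h2 : Bijective (fun z => eX' (eβ (secBC φ gP hP ((Scheme.Modules.pushforward i).obj F) ⊤ z))) :=
    eX'.bijective.comp (eβ.bijective.comp hb)
  rw [show (fun z => eX' (eβ (secBC φ gP hP ((Scheme.Modules.pushforward i).obj F) ⊤ z))) =
    (secBC φ g hX F ⊤) ∘ eT from funext key] at h2
  exact (Bijective.of_comp_iff _ eT.bijective).1 h2

section Twist

variable {L : X.Modules}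

include hX in
/-- Base change is eventually bijective on sections of twists, with no flatness. -/
theorem exists_bijective_secBC_twist [IsNoetherianRing A] [IsNoetherianRing B]
    [IsProper (X ↘ Spec (CommRingCat.of A))] (hL : CohB1.IsAmple L) (F : X.Modules) (hF : Coh.IsCoh F) :
    ∃ N : ℕ, ∀ r : ℕ, N ≤ r →
      Bijective (secBC φ g hX (CohB1.tensorMod F (CohB1.tensorPow L r)) ⊤) := by
  classical
  let S := Spec (CommRingCat.of A)
  haveI : IsLocallyNoetherian X := LocallyOfFiniteType.isLocallyNoetherian (X ↘ S)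
  have hLi : PicF.IsInvertible L := (isAmple_iff_affGlocus.1 hL).1
  obtain ⟨n₀, hn₀⟩ := MorProj.eventually_isRelVeryAmplePn_pow (X ↘ S) hL
  let d := n₀ + 1
  obtain ⟨n, i, hi, hiq, ⟨e⟩⟩ := hn₀ d (Nat.le_succ _)
  haveI := hi
  let Q := CohB1.ProjSpaceOver n S
  haveI : IsProper (Q ↘ S) := RelVALib.isProper_toBase n S
  haveI : Flat (Q ↘ S) := Coherent.flat_toBase n S
  haveI : IsLocallyNoetherian Q := LocallyOfFiniteType.isLocallyNoetherian (Q ↘ S)
  have wi : i ≫ (Q ↘ S) = X ↘ S := hiq
  haveI : IsProper (i ≫ (Q ↘ S)) := by rw [wi]; infer_instance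
  haveI : IsProper i := IsProper.of_comp i (Q ↘ S)
  haveI : IsClosedImmersion i := IsClosedImmersion.of_isPreimmersion i i.isClosedMap.isClosed_range
  let Q' := pullback (Q ↘ S) (Spec.map (CommRingCat.ofHom φ))
  let _ : Q'.Over (Spec (CommRingCat.of B)) := ⟨pullback.snd _ _⟩
  have hQ : IsPullback (pullback.fst (Q ↘ S) (Spec.map (CommRingCat.ofHom φ)))
      (Q' ↘ Spec (CommRingCat.of B)) (Q ↘ S) (Spec.map (CommRingCat.ofHom φ)) :=
    IsPullback.of_hasPullback _ _
  let gQ := pullback.fst (Q ↘ S) (Spec.map (CommRingCat.ofHom φ))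
  have hwg : (g ≫ i) ≫ (Q ↘ S) = (X' ↘ Spec (CommRingCat.of B)) ≫ Spec.map (CommRingCat.ofHom φ) := by
    rw [Category.assoc, wi, hX.w]
  let i' : X' ⟶ Q' := hQ.lift (g ≫ i) (X' ↘ Spec (CommRingCat.of B)) hwg
  have wi' : i' ≫ (Q' ↘ Spec (CommRingCat.of B)) = X' ↘ Spec (CommRingCat.of B) := hQ.lift_snd _ _ _
  have hsq : IsPullback g i' i gQ := by
    refine IsPullback.of_bot ?_ (hQ.lift_fst _ _ _).symm hQ
    rw [wi', wi]; exact hX
  let O1 := Twist.twistOver n S 1
  haveI : IsAffineHom (specULiftZIsTerminal.from S) := isAffineHom_of_isAffine _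
  haveI : IsAffineHom (pullback.fst (CohB1.ProjSpace.toSpec n (ULift.{u} ℤ)) (specULiftZIsTerminal.from S)) :=
    MorphismProperty.pullback_fst _ _ inferInstance
  have hO : CohB1.IsAmple O1 := AmpleLib.isAmple_pullback_of_isAffineHom _ (MorProj.isAmple_twistProjSpace n)
  have hOi : PicF.IsInvertible O1 := (isAmple_iff_affGlocus.1 hO).1
  let G : ℕ → X.Modules := fun j => CohB1.tensorMod F (CohB1.tensorPow L j)
  have hG : ∀ j, Coh.IsCoh (G j) := fun j => EulerLib.isCoh_twist (AmpleLib.isInvertible_tensorPow hLi j) hF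
  have hflat : ∀ j, ∃ N : ℕ, ∀ r : ℕ, N ≤ r → Bijective (secBC φ gQ hQ
      (CohB1.tensorMod ((Scheme.Modules.pushforward i).obj (G j)) (CohB1.tensorPow O1 r)) ⊤) := fun j =>
    CohBC.exists_bijective_secBC_twist φ gQ hQ hO _ (Existence.isCoh_push_of_isProper i (hG j))
  choose N hN using hflat
  let M := (Finset.range d).sup N
  refine ⟨d * M + d, fun r hr => ?_⟩
  have hd : 0 < d := Nat.succ_pos _
  let s := r / d
  let j := r % d
  have hj : j < d := Nat.mod_lt _ hd
  have hs : M ≤ s := (Nat.le_div_iff_mul_le hd).2 (by rw [mul_comm]; omega)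
  have hb := hN j s ((Finset.le_sup (Finset.mem_range.2 hj)).trans hs)
  let E := CohB1.tensorPow O1 s
  have hE : FlatMod.IsFinLocFree E := isFinLocFree_of_invertible (AmpleLib.isInvertible_tensorPow hOi s)
  haveI := Coherent.isIso_projHom (f := i) hE (G j)
  have hb₁ := bijective_secBC_of_iso φ gQ hQ
    (AmpleLib.tensorComm _ _ ≪≫ asIso (Coherent.projHom i E (G j))) hb
  have hEi : PicF.IsInvertible ((Scheme.Modules.pullback i).obj E) :=
    PicLoc.isInvertible_pullback i (AmpleLib.isInvertible_tensorPow hOi s)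
  haveI : Coh.IsQCoh (CohB1.tensorMod ((Scheme.Modules.pullback i).obj E) (G j)) :=
    (Coherent.isCoh_of_iso (AmpleLib.tensorComm _ _) (EulerLib.isCoh_twist hEi (hG j))).1
  have hb₂ := bijective_secBC_of_affine φ hX hQ wi wi' hsq _ hb₁
  obtain ⟨e₁, -⟩ := exists_pullPowIso i hOi s
  obtain ⟨e₂, -⟩ := AmpleLib.exists_powPowIso hLi d s
  obtain ⟨e₃⟩ := nonempty_twist_twist hLi F j (d * s)
  have hr' : j + d * s = r := Nat.mod_add_div r d
  rw [← hr']
  exact bijective_secBC_of_iso φ g hX (AmpleLib.tensorComm _ _ ≪≫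
    AmpleLib.tensorIso (Iso.refl (G j)) (e₁ ≪≫ powIsoOfIso e.symm s ≪≫ e₂) ≪≫ e₃) hb₂

end Twist

end Groth.Agent.TwistBCNF
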